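/-
Two primes in Bertrand's interval.
Main result: `Cfsg.Agent.TwoPrimes.exists_two_primes`: for `6 ≤ m` there are primes
`m < p < q ≤ 2 * m`.
-/
import Cfsg.Agent.EqLemmas

namespace Cfsg.Agent.TwoPrimes

open Nat

theorem centralBinom_le_of_one_prime (n : ℕ) (n_large : 2 < n) (p₀ : ℕ)
    (h : ∀ p : ℕ, p.Prime → n < p → p ≤ 2 * n → p = p₀) (hp₀ : n < p₀) (hp₀' : p₀ ≤ 2 * n) :
    centralBinom n ≤ 2 * n * ((2 * n) ^ sqrt (2 * n) * 4 ^ (2 * n / 3)) := by
  have n_pos : 0 < n := (Nat.zero_le _).trans_lt n_large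
  have n2_pos : 1 ≤ 2 * n := Nat.mul_pos two_pos n_pos
  let f x := x ^ n.centralBinom.factorization x
  let A := insert p₀ (Finset.range (2 * n / 3 + 1))
  have hA : centralBinom n = ∏ p ∈ A, f p := by
    refine (Eq.trans ?_ n.prod_pow_factorization_centralBinom).symm
    apply Finset.prod_subset
    · intro x hx
      simp only [A, Finset.mem_insert, Finset.mem_range] at hx
      rw [Finset.mem_range]
      omega
    intro x hx h2x
    simp only [A, Finset.mem_insert, Finset.mem_range, not_or, not_lt] at h2x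
    rw [Finset.mem_range] at hx
    show x ^ _ = 1
    by_cases hxp : x.Prime
    · by_cases hxn : x ≤ n
      · rw [factorization_centralBinom_of_two_mul_self_lt_three_mul n_large hxn (by omega), pow_zero]
      · exact absurd (h x hxp (by omega) (by omega)) h2x.1
    · rw [factorization_eq_zero_of_not_prime n.centralBinom hxp, pow_zero]
  have hp₀A : p₀ ∉ Finset.range (2 * n / 3 + 1) := by
    rw [Finset.mem_range]
    omega
  rw [hA, Finset.prod_insert hp₀A]
  refine Nat.mul_le_mul (pow_factorization_choose_le (Nat.mul_pos two_pos n_pos)) ?_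
  let S := {p ∈ Finset.range (2 * n / 3 + 1) | Nat.Prime p}
  have : ∏ x ∈ S, f x = ∏ x ∈ Finset.range (2 * n / 3 + 1), f x := by
    refine Finset.prod_filter_of_ne fun p _ h => ?_
    contrapose h; dsimp only [f]
    rw [factorization_eq_zero_of_not_prime n.centralBinom h, pow_zero]
  rw [← this, ← Finset.prod_filter_mul_prod_filter_not S (· ≤ sqrt (2 * n))]
  apply mul_le_mul'
  · refine (Finset.prod_le_prod' fun p _ => (?_ : f p ≤ 2 * n)).trans ?_
    · exact pow_factorization_choose_le (Nat.mul_pos two_pos n_pos)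
    have : (Finset.Icc 1 (sqrt (2 * n))).card = sqrt (2 * n) := by rw [Nat.card_Icc, Nat.add_sub_cancel]
    rw [Finset.prod_const]
    refine pow_right_mono₀ n2_pos ((Finset.card_le_card fun x hx => ?_).trans this.le)
    obtain ⟨h1, h2⟩ := Finset.mem_filter.1 hx
    exact Finset.mem_Icc.mpr ⟨(Finset.mem_filter.1 h1).2.one_lt.le, h2⟩
  · refine le_trans ?_ (primorial_le_four_pow (2 * n / 3))
    refine (Finset.prod_le_prod' fun p hp => (?_ : f p ≤ p)).trans ?_
    · obtain ⟨h1, h2⟩ := Finset.mem_filter.1 hp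
      refine (pow_right_mono₀ (Finset.mem_filter.1 h1).2.one_lt.le ?_).trans (pow_one p).le
      exact Nat.factorization_choose_le_one (sqrt_lt'.mp <| not_le.1 h2)
    refine Finset.prod_le_prod_of_subset_of_one_le' (Finset.filter_subset _ _) ?_
    exact fun p hp _ => (Finset.mem_filter.1 hp).2.one_lt.le

theorem succ_le_two_pow_div {s : ℕ} (hs : 128 ≤ s) : s + 1 ≤ 2 ^ (s / 16) := by
  have key : ∀ j, 8 ≤ j → 16 * j + 16 ≤ 2 ^ j := by
    intro j hj
    induction j, hj using Nat.le_induction with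
    | base => norm_num
    | succ j _ ih => rw [pow_succ]; omega
  have := key (s / 16) (by omega)
  omega

theorem main_inequality {n : ℕ} (hn : 8192 ≤ n) :
    n * (2 * n * ((2 * n) ^ sqrt (2 * n) * 4 ^ (2 * n / 3))) ≤ 4 ^ n := by
  set s := sqrt (2 * n) with hs
  have hs128 : 128 ≤ s := by rw [hs, Nat.le_sqrt]; omega
  have hk : 2 * n ≤ 2 ^ (2 * (s / 16)) := by
    have h1 : 2 * n < (s + 1) * (s + 1) := Nat.lt_succ_sqrt _
    have h2 := Nat.mul_le_mul (succ_le_two_pow_div hs128) (succ_le_two_pow_div hs128)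
    rw [← pow_add, ← two_mul] at h2
    omega
  have hsq : s * s ≤ 2 * n := Nat.sqrt_le _
  have h16 : 16 * (s / 16) ≤ s := Nat.mul_div_le s 16
  have hexp : s / 16 * (s + 2) + 2 * n / 3 ≤ n := by
    have h4 : 16 * (s / 16) * (s + 2) ≤ s * (s + 2) := Nat.mul_le_mul_right _ h16
    have h5 : 3 * (s * (s + 2)) ≤ 8 * (s * s) := by nlinarith
    have h6 : 48 * (s / 16 * (s + 2)) ≤ 16 * n := by nlinarith
    omega
  calc n * (2 * n * ((2 * n) ^ s * 4 ^ (2 * n / 3)))
      ≤ (2 * n) ^ (s + 2) * 4 ^ (2 * n / 3) := by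
        rw [pow_add, pow_two]
        calc n * (2 * n * ((2 * n) ^ s * 4 ^ (2 * n / 3)))
            ≤ (2 * n) * (2 * n * ((2 * n) ^ s * 4 ^ (2 * n / 3))) := Nat.mul_le_mul_right _ (by omega)
          _ = _ := by ring
    _ ≤ (2 ^ (2 * (s / 16))) ^ (s + 2) * 4 ^ (2 * n / 3) := Nat.mul_le_mul_right _ (Nat.pow_le_pow_left hk _)
    _ = 4 ^ (s / 16 * (s + 2) + 2 * n / 3) := by
        rw [pow_mul, show (2 : ℕ) ^ 2 = 4 from rfl, ← pow_mul, ← pow_add]
    _ ≤ 4 ^ n := Nat.pow_le_pow_right (by norm_num) hexp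

theorem step (lo hi p q : ℕ) (hp : p.Prime) (hq : q.Prime) (hne : p ≠ q) (h1 : hi ≤ p) (h2 : hi ≤ q)
    (h3 : p ≤ 2 * lo) (h4 : q ≤ 2 * lo) {m : ℕ}
    (H : m < lo → ∃ p q : ℕ, p.Prime ∧ q.Prime ∧ m < p ∧ p < q ∧ q ≤ 2 * m) (hm : m < hi) :
    ∃ p q : ℕ, p.Prime ∧ q.Prime ∧ m < p ∧ p < q ∧ q ≤ 2 * m := by
  by_cases hlo : m < lo
  · exact H hlo
  rcases Nat.lt_or_ge p q with h | h
  · exact ⟨p, q, hp, hq, by omega, h, by omega⟩
  · exact ⟨q, p, hq, hp, by omega, by omega, by omega⟩

/-- For `6 ≤ m` there are two primes in `(m, 2 m]`. -/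
theorem exists_two_primes (m : ℕ) (hm : 6 ≤ m) :
    ∃ p q : ℕ, p.Prime ∧ q.Prime ∧ m < p ∧ p < q ∧ q ≤ 2 * m := by
  by_cases hlarge : 8192 ≤ m
  · obtain ⟨p₀, hp₀, hlt, hle⟩ := Nat.exists_prime_lt_and_le_two_mul m (by omega)
    by_contra hc
    push Not at hc
    have huniq : ∀ p : ℕ, p.Prime → m < p → p ≤ 2 * m → p = p₀ := by
      intro p hp h1 h2
      rcases Nat.lt_trichotomy p p₀ with h | h | h
      · have := hc p p₀ hp hp₀ h1 h; omega
      · exact h
      · have := hc p₀ p hp₀ hp hlt h; omega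
    have h1 := centralBinom_le_of_one_prime m (by omega) p₀ huniq hlt hle
    have h2 := Nat.four_pow_lt_mul_centralBinom m (by omega)
    have h3 := main_inequality hlarge
    have h4 := Nat.mul_le_mul_left m h1
    omega
  · refine step 4871 8192 9733 9739 (by norm_num1) (by norm_num1) (by norm_num1) (by norm_num1) (by norm_num1)
      (by norm_num1) (by norm_num1) ?_ (by omega)
    refine step 2441 4871 4871 4877 (by norm_num1) (by norm_num1) (by norm_num1) (by norm_num1) (by norm_num1)
      (by norm_num1) (by norm_num1) ?_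
    refine step 1229 2441 2441 2447 (by norm_num1) (by norm_num1) (by norm_num1) (by norm_num1) (by norm_num1)
      (by norm_num1) (by norm_num1) ?_
    refine step 617 1229 1229 1231 (by norm_num1) (by norm_num1) (by norm_num1) (by norm_num1) (by norm_num1)
      (by norm_num1) (by norm_num1) ?_
    refine step 311 617 617 619 (by norm_num1) (by norm_num1) (by norm_num1) (by norm_num1) (by norm_num1)
      (by norm_num1) (by norm_num1) ?_
    refine step 157 311 311 313 (by norm_num1) (by norm_num1) (by norm_num1) (by norm_num1) (by norm_num1)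
      (by norm_num1) (by norm_num1) ?_
    refine step 83 157 157 163 (by norm_num1) (by norm_num1) (by norm_num1) (by norm_num1) (by norm_num1)
      (by norm_num1) (by norm_num1) ?_
    refine step 47 83 83 89 (by norm_num1) (by norm_num1) (by norm_num1) (by norm_num1) (by norm_num1)
      (by norm_num1) (by norm_num1) ?_
    refine step 29 47 47 53 (by norm_num1) (by norm_num1) (by norm_num1) (by norm_num1) (by norm_num1)
      (by norm_num1) (by norm_num1) ?_
    refine step 17 29 29 31 (by norm_num1) (by norm_num1) (by norm_num1) (by norm_num1) (by norm_num1)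
      (by norm_num1) (by norm_num1) ?_
    refine step 11 17 17 19 (by norm_num1) (by norm_num1) (by norm_num1) (by norm_num1) (by norm_num1)
      (by norm_num1) (by norm_num1) ?_
    refine step 7 11 11 13 (by norm_num1) (by norm_num1) (by norm_num1) (by norm_num1) (by norm_num1)
      (by norm_num1) (by norm_num1) ?_
    refine step 6 7 7 11 (by norm_num1) (by norm_num1) (by norm_num1) (by norm_num1) (by norm_num1)
      (by norm_num1) (by norm_num1) ?_
    omega

end Cfsg.Agent.TwoPrimes
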